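import Cfsg.Agent.Lib.Components.NilpotentInvariant.Basic

/-!
A maximal bad subgroup of a Sylow `2`-subgroup of class at most two has index two, with an
element of odd order inverted on its centre.
-/

set_option autoImplicit false
set_option linter.all false

namespace Cfsg.Agent.Components.NilpotentInvariant

open Subgroup
open scoped commutatorElement Pointwise
open Cfsg.Agent.PLocal.ThompsonComplement (Z)

variable {G : Type*} [Group G] [Finite G]

/-- Commutators of `S` are central in `S`. -/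
def ClassTwo (S : Subgroup G) : Prop :=
  ∀ x ∈ S, ∀ y ∈ S, ∀ z ∈ S, ⁅x, y⁆ * z = z * ⁅x, y⁆

/-- `D` has index two in `S` and has an element of odd order inverted on its centre. -/
structure Good (S D : Subgroup G) : Prop where
  le : D ≤ S
  index : ∀ s ∈ S, ∀ t ∈ S, s ∉ D → t ∉ D → s * t⁻¹ ∈ D
  cent : ∀ s ∈ S, s ∈ centralizer (D : Set G) → s ∈ D
  act : ∃ x : G, x ∈ normalizer (D : Set G) ∧ (orderOf x).Coprime 2 ∧
    x ∉ centralizer (D : Set G) ∧ (∀ d ∈ D, x * d * x⁻¹ * d⁻¹ ∈ Z D) ∧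
    ∀ t ∈ S, t ∉ D → ∀ z ∈ Z D, t * x * t⁻¹ * z * (t * x * t⁻¹)⁻¹ = x⁻¹ * z * x

theorem commutator_mem_Z {S D : Subgroup G} (hcl : ClassTwo S) (hle : D ≤ S)
    (hcent : ∀ s ∈ S, s ∈ centralizer (D : Set G) → s ∈ D) {a b : G} (ha : a ∈ S) (hb : b ∈ S) :
    ⁅a, b⁆ ∈ Z D := by
  have h1 : ⁅a, b⁆ ∈ centralizer (D : Set G) := fun d hd => (hcl a ha b hb d (hle hd)).symm
  refine ⟨hcent _ ?_ h1, h1⟩
  rw [commutatorElement_def]
  exact S.mul_mem (S.mul_mem (S.mul_mem ha hb) (S.inv_mem ha)) (S.inv_mem hb)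

theorem le_normalizer_of_classTwo {S D : Subgroup G} (hcl : ClassTwo S) (hle : D ≤ S)
    (hcent : ∀ s ∈ S, s ∈ centralizer (D : Set G) → s ∈ D) : S ≤ normalizer (D : Set G) := by
  intro s hs
  have key : ∀ s ∈ S, ∀ d ∈ D, s * d * s⁻¹ ∈ D := by
    intro s hs d hd
    have e : s * d * s⁻¹ = ⁅s, d⁆ * d := by rw [commutatorElement_def]; group
    rw [e]
    exact D.mul_mem (commutator_mem_Z hcl hle hcent hs (hle hd)).1 hd
  rw [mem_normalizer_iff]
  refine fun d => ⟨key s hs d, fun hd => ?_⟩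
  have h := key _ (S.inv_mem hs) _ hd
  simpa [mul_assoc] using h

/-- The conclusion drawn from an element `u` of `S` inverting `x` modulo `D C(D)`. -/
theorem inverted {S D : Subgroup G} (hcl : ClassTwo S) (hle : D ≤ S)
    (hcent : ∀ s ∈ S, s ∈ centralizer (D : Set G) → s ∈ D) {x u : G}
    (hx : x ∈ normalizer (D : Set G)) (hxo : (orderOf x).Coprime 2) (hu : u ∈ S)
    (hk : u * x * u⁻¹ * x ∈ centralizer (D : Set G) ⊔ D) :
    (∀ d ∈ D, x * d * x⁻¹ * d⁻¹ ∈ Z D) ∧
      ∀ z ∈ Z D, u * x * u⁻¹ * z * (u * x * u⁻¹)⁻¹ = x⁻¹ * z * x := by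
  set C := centralizer (D : Set G) with hC
  have hDC : D ≤ normalizer (C : Set G) := fun d hd => centralizer_normalizer (le_normalizer hd)
  have huN := le_normalizer_of_classTwo hcl hle hcent hu
  obtain ⟨c, hc, d0, hd0, hcd⟩ : ∃ c ∈ C, ∃ d0 ∈ D, c * d0 = u * x * u⁻¹ * x := by
    have h : u * x * u⁻¹ * x ∈ ((C ⊔ D : Subgroup G) : Set G) := hk
    rw [coe_mul_of_right_le_normalizer_left C D hDC] at h
    exact h
  have hkN : u * x * u⁻¹ * x ∈ normalizer (D : Set G) :=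
    mul_mem (mul_mem (mul_mem huN hx) (inv_mem huN)) hx
  have hkz : ∀ z ∈ Z D, u * x * u⁻¹ * x * z * (u * x * u⁻¹ * x)⁻¹ = z := by
    intro z hz
    rw [← hcd]
    have h1 : d0 * z = z * d0 := hz.2 d0 hd0
    have h2 : z * c = c * z := hc z hz.1
    calc c * d0 * z * (c * d0)⁻¹ = c * (d0 * z) * d0⁻¹ * c⁻¹ := by group
      _ = (c * z) * c⁻¹ := by rw [h1]; group
      _ = z := by rw [← h2]; group
  -- the kernel of the action on `D / Z(D)`
  let T : Subgroup G :=
    { carrier := {g | g ∈ normalizer (D : Set G) ∧ ∀ d ∈ D, g * d * g⁻¹ * d⁻¹ ∈ Z D}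
      mul_mem' := by
        rintro g h ⟨hg, hg'⟩ ⟨hh, hh'⟩
        refine ⟨mul_mem hg hh, fun d hd => ?_⟩
        have e : g * h * d * (g * h)⁻¹ * d⁻¹ =
            (g * (h * d * h⁻¹ * d⁻¹) * g⁻¹) * (g * d * g⁻¹ * d⁻¹) := by group
        rw [e]
        exact (Z D).mul_mem (conj_mem_Z hg (hh' d hd)) (hg' d hd)
      one_mem' := ⟨one_mem _, fun d hd => by simpa using (Z D).one_mem⟩
      inv_mem' := by
        rintro g ⟨hg, hg'⟩
        refine ⟨inv_mem hg, fun d hd => ?_⟩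
        have h := conj_mem_Z (inv_mem hg) (hg' d hd)
        have e : g⁻¹ * d * g⁻¹⁻¹ * d⁻¹ = (g⁻¹ * (g * d * g⁻¹ * d⁻¹) * g⁻¹⁻¹)⁻¹ := by group
        rw [e]
        exact (Z D).inv_mem h }
  have hTu : u ∈ T := ⟨huN, fun d hd => by
    rw [← commutatorElement_def]; exact commutator_mem_Z hcl hle hcent hu (hle hd)⟩
  have hTk : u * x * u⁻¹ * x ∈ T := by
    refine ⟨hkN, fun d hd => ?_⟩
    rw [← hcd]
    have h2 : d0 * d * d0⁻¹ * c = c * (d0 * d * d0⁻¹) := hc _ (D.mul_mem (D.mul_mem hd0 hd) (D.inv_mem hd0))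
    have e : c * d0 * d * (c * d0)⁻¹ * d⁻¹ = ⁅d0, d⁆ := by
      calc c * d0 * d * (c * d0)⁻¹ * d⁻¹ = c * (d0 * d * d0⁻¹) * c⁻¹ * d⁻¹ := by group
        _ = ⁅d0, d⁆ := by rw [← h2, commutatorElement_def]; group
    rw [e]
    exact commutator_mem_Z hcl hle hcent (hle hd0) (hle hd)
  have hconj : x * u * x⁻¹ ∈ T := by
    refine ⟨mul_mem (mul_mem hx huN) (inv_mem hx), fun d hd => ?_⟩
    have hd' : x⁻¹ * d * x ∈ D := by
      simpa using (mem_normalizer_iff.mp (inv_mem hx) d).mp hd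
    have h := conj_mem_Z hx (hTu.2 _ hd')
    have e : x * u * x⁻¹ * d * (x * u * x⁻¹)⁻¹ * d⁻¹ =
        x * (u * (x⁻¹ * d * x) * u⁻¹ * (x⁻¹ * d * x)⁻¹) * x⁻¹ := by group
    rw [e]; exact h
  have hx2 : x ^ 2 ∈ T := by
    have e : x ^ 2 = (x * u * x⁻¹) * (u⁻¹ * (u * x * u⁻¹ * x)) := by rw [pow_two]; group
    rw [e]
    exact T.mul_mem hconj (T.mul_mem (T.inv_mem hTu) hTk)
  have hxT : x ∈ T := mem_of_pow (a := 1) hxo (by rwa [pow_one])
  refine ⟨hxT.2, fun z hz => ?_⟩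
  have hz' : x⁻¹ * z * x ∈ Z D := by simpa using conj_mem_Z (inv_mem hx) hz
  calc u * x * u⁻¹ * z * (u * x * u⁻¹)⁻¹
      = (u * x * u⁻¹ * x) * (x⁻¹ * z * x) * (u * x * u⁻¹ * x)⁻¹ := by group
    _ = _ := hkz _ hz'

/-- Existence of a good subgroup. -/
theorem exists_good (hno : ¬ Transfer.Frobenius.Condition 2 G) (S : Sylow 2 G)
    (hcl : ClassTwo (S : Subgroup G))
    (hself : ∀ g ∈ normalizer ((S : Subgroup G) : Set G), (orderOf g).Coprime 2 →
      g ∈ centralizer ((S : Subgroup G) : Set G)) : ∃ D, Good (S : Subgroup G) D := by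
  classical
  obtain ⟨D, hDS, hbad⟩ := exists_maxBad hno S
  obtain ⟨⟨hDp, x, hxN, hxo, hxC⟩, hmax⟩ := id hbad
  set C := centralizer (D : Set G) with hC
  have hcent : ∀ s ∈ (S : Subgroup G), s ∈ C → s ∈ D := by
    intro s hs hsc
    obtain ⟨j, hj⟩ := exists_pow_eq_one S.2 hs
    exact hbad.centric hj hsc
  have hSN : (S : Subgroup G) ≤ normalizer (D : Set G) := le_normalizer_of_classTwo hcl hDS hcent
  have hDC : D ≤ normalizer (C : Set G) := fun d hd => centralizer_normalizer (le_normalizer hd)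
  set X := normalizer (D : Set G) with hX
  set K := C ⊔ D with hK
  have hKX : K ≤ X := sup_le (centralizer_le_normalizer (D : Set G)) le_normalizer
  have hKn : ∀ n ∈ X, n ∈ normalizer (K : Set G) := by
    intro n hn
    rw [← Transfer.Fusion.map_conj_eq_self_iff, hK, Subgroup.map_sup,
      Transfer.Fusion.map_conj_eq_self_iff.mpr hn,
      Transfer.Fusion.map_conj_eq_self_iff.mpr (centralizer_normalizer hn)]
  have hKS : ∀ s ∈ (S : Subgroup G), s ∈ K → s ∈ D := by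
    intro s hs hsK
    have h : s ∈ ((C ⊔ D : Subgroup G) : Set G) := hsK
    rw [coe_mul_of_right_le_normalizer_left C D hDC] at h
    obtain ⟨c, hc, d, hd, rfl⟩ := h
    refine D.mul_mem (hcent c ?_ hc) hd
    have := (S : Subgroup G).mul_mem hs ((S : Subgroup G).inv_mem (hDS hd))
    simpa using this
  -- elements of odd order in `K` centralize `D`
  have hKodd : ∀ g ∈ K, (orderOf g).Coprime 2 → g ∈ C := by
    intro g hg ho
    have h : g ∈ ((C ⊔ D : Subgroup G) : Set G) := hg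
    rw [coe_mul_of_right_le_normalizer_left C D hDC] at h
    obtain ⟨c, hc, d, hd, rfl⟩ := h
    refine mem_of_shift (hDC hd) hc ho fun a ha => ?_
    obtain ⟨j, hj⟩ := exists_pow_eq_one hDp hd
    have h1 : d ^ 2 ^ a = 1 := orderOf_eq_one_iff.mp (Nat.eq_one_of_dvd_coprimes (ha.pow_right j)
      dvd_rfl (orderOf_dvd_of_pow_eq_one (by rw [← pow_mul, mul_comm, pow_mul, hj, one_pow])))
    rw [h1]; exact C.one_mem
  -- the key property
  have keyL : ∀ U : Subgroup G, D < U → U ≤ (S : Subgroup G) → ∀ h ∈ X, (orderOf h).Coprime 2 →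
      (∀ u ∈ U, h * u * h⁻¹ ∈ K ⊔ U) → h ∈ K := by
    intro U hDU hUS h hh ho hconj
    have hUp : IsPGroup 2 U := S.2.to_le hUS
    set P := K ⊔ U with hP
    have hUP : U ≤ P := le_sup_right
    have hPX : P ≤ X := sup_le hKX (hUS.trans hSN)
    have hmap : P.map (MulAut.conj h).toMonoidHom ≤ P := by
      rw [hP, Subgroup.map_sup, Transfer.Fusion.map_conj_eq_self_iff.mpr (hKn h hh)]
      refine sup_le le_sup_left ?_
      rintro _ ⟨u, hu, rfl⟩
      exact hconj u hu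
    have hhP : h ∈ normalizer (P : Set G) := Transfer.Fusion.map_conj_eq_self_iff.mp
      (eq_of_le_of_card_ge hmap (by rw [card_map_of_injective (MulAut.conj h).injective]))
    -- `U` is a Sylow subgroup of `P`
    obtain ⟨T, hT⟩ := (hUp.comap_subtype (K := P)).exists_le_sylow
    set T' := (T : Subgroup P).map P.subtype with hT'
    have hTU : T' = U := by
      have hUT : U ≤ T' := fun u hu => ⟨⟨u, hUP hu⟩, hT hu, rfl⟩
      have hTp : IsPGroup 2 T' := T.2.map _
      have hTK : T' ⊓ K ≤ D := by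
        obtain ⟨c, hcX, hc⟩ := Transfer.Fusion.exists_conj_le_of_isPGroup (K := X) S hSN
          (hTp.to_le (inf_le_left : T' ⊓ K ≤ T')) (inf_le_right.trans hKX)
        have hle : (T' ⊓ K).map (MulAut.conj c).toMonoidHom ≤ D := by
          rintro _ ⟨y, hy, rfl⟩
          exact hKS _ (hc ⟨y, hy, rfl⟩) ((mem_normalizer_iff.mp (hKn c hcX) y).mp hy.2)
        have hge : D ≤ T' ⊓ K := le_inf (hDU.le.trans hUT) le_sup_right
        refine (eq_of_le_of_card_ge hge ?_).ge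
        rw [← Transfer.Fusion.card_map_conj _ c]
        exact Subgroup.card_le_of_le hle
      refine le_antisymm (fun t ht => ?_) hUT
      have htP : t ∈ ((K ⊔ U : Subgroup G) : Set G) := map_subtype_le _ ht
      rw [coe_mul_of_right_le_normalizer_left K U (fun u hu => hKn u (hSN (hUS hu)))] at htP
      obtain ⟨k, hk, u, hu, rfl⟩ := htP
      refine U.mul_mem (hDU.le (hTK ⟨?_, hk⟩)) hu
      have h1 := T'.mul_mem ht (T'.inv_mem (hUT hu))
      simpa using h1
    obtain ⟨p', hp', hpe⟩ := Coprime.exists_conj_sylow_map (H := MulAut.conj h • U) (K := P) (p := 2)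
      (le_trans (pointwise_smul_le_pointwise_smul_iff.mpr hUP)
        (le_of_eq (Coprime.conj_smul_eq_self_iff.mpr hhP))) T
      (by rw [Coprime.card_conj_smul, ← hTU, hT', card_subtype])
    have hp'' : p' ∈ ((K ⊔ U : Subgroup G) : Set G) := hp'
    rw [coe_mul_of_right_le_normalizer_left K U (fun u hu => hKn u (hSN (hUS hu)))] at hp''
    obtain ⟨k, hk, u, hu, rfl⟩ := hp''
    have hnU : k⁻¹ * h ∈ normalizer (U : Set G) := by
      rw [← Coprime.conj_smul_eq_self_iff, Coprime.conj_smul_mul, hpe, ← hT', hTU,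
        ← Coprime.conj_smul_mul, inv_mul_cancel_left,
        Coprime.conj_smul_eq_self_iff.mpr (le_normalizer hu)]
    rw [← mul_inv_cancel_left k h]
    refine mem_of_shift (hKn _ (mul_mem (inv_mem (hKX hk)) hh)) hk
      (by rwa [mul_inv_cancel_left]) fun a ha => ?_
    exact le_sup_left (a := C) (b := D)
      (centralizer_le (SetLike.coe_subset_coe.mpr hDU.le)
        (hmax U hUp (card_lt_of_lt hDU) _ (pow_mem hnU _) ha))
  -- the automizer
  let K' : Subgroup X := K.subgroupOf X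
  have hK'n : K'.Normal := ⟨fun k hk g => mem_subgroupOf.mpr (by
    simpa using (mem_normalizer_iff.mp (hKn g g.2) (k : G)).mp (mem_subgroupOf.mp hk))⟩
  let π : X →* X ⧸ K' := QuotientGroup.mk' K'
  have hπ : ∀ g : X, π g = 1 ↔ (g : G) ∈ K := fun g =>
    (QuotientGroup.eq_one_iff g).trans mem_subgroupOf
  have hπe : ∀ g h : X, π g = π h → ∃ k ∈ K, (g : G) = k * h := by
    intro g h he
    refine ⟨g * (h : G)⁻¹, ?_, by group⟩
    have h1 : π (g * h⁻¹) = 1 := by rw [map_mul, map_inv, he, mul_inv_cancel]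
    simpa using (hπ _).mp h1
  let Pb : Sylow 2 (X ⧸ K') := (S.subtype hSN).mapSurjective (QuotientGroup.mk'_surjective K')
  have hPb : ∀ g : X ⧸ K', g ∈ Pb ↔ ∃ s : X, (s : G) ∈ (S : Subgroup G) ∧ π s = g := by
    intro g
    show g ∈ ((S.subtype hSN : Subgroup X)).map π ↔ _
    rw [Sylow.coe_subtype]
    exact Iff.rfl
  -- odd elements normalizing a nontrivial subgroup of the Sylow subgroup are trivial
  have keyQ : ∀ g : X ⧸ K', (orderOf g).Coprime 2 → ∀ U : Subgroup G, D < U →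
      U ≤ (S : Subgroup G) →
      (∀ u : X, (u : G) ∈ U → ∃ v : X, (v : G) ∈ U ∧ g * π u * g⁻¹ = π v) → g = 1 := by
    intro g hgo U hDU hUS hg
    obtain ⟨h, rfl⟩ := QuotientGroup.mk'_surjective K' g
    obtain ⟨a, ha⟩ := exists_pow_coprime_two h
    apply orderOf_eq_one_iff.mp
    refine Nat.eq_one_of_dvd_coprimes (hgo.pow_right a) dvd_rfl (orderOf_dvd_of_pow_eq_one ?_)
    rw [← map_pow, hπ]
    refine keyL U hDU hUS _ (h ^ 2 ^ a).2 (by rwa [Subgroup.orderOf_coe]) fun u hu => ?_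
    have hall : ∀ n : ℕ, ∀ u : X, (u : G) ∈ U →
        ∃ v : X, (v : G) ∈ U ∧ π h ^ n * π u * (π h ^ n)⁻¹ = π v := by
      intro n
      induction n with
      | zero => exact fun u hu => ⟨u, hu, by simp⟩
      | succ n ih =>
        intro u hu
        obtain ⟨v, hv, he⟩ := hg u hu
        obtain ⟨w, hw, he'⟩ := ih v hv
        change π h * π u * (π h)⁻¹ = π v at he
        exact ⟨w, hw, by rw [← he', ← he, pow_succ]; group⟩
    obtain ⟨v, hv, he⟩ := hall (2 ^ a) ⟨u, hSN (hUS hu)⟩ hu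
    rw [← map_pow, ← map_inv, ← map_mul, ← map_mul] at he
    obtain ⟨k, hk, hkv⟩ := hπe _ _ he
    simp only [Subgroup.coe_mul, Subgroup.coe_inv] at hkv
    rw [hkv]
    exact (K ⊔ U).mul_mem (mem_sup_left hk) (mem_sup_right hv)
  have hcomm : ∀ a ∈ Pb, ∀ b ∈ Pb, a * b = b * a := by
    intro a ha b hb
    obtain ⟨s, hs, rfl⟩ := (hPb a).mp ha
    obtain ⟨t, ht, rfl⟩ := (hPb b).mp hb
    rw [← commutatorElement_eq_one_iff_mul_comm, ← map_commutatorElement, hπ]
    exact mem_sup_right (commutator_mem_Z hcl hDS hcent hs ht).1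
  have hDlt : D < (S : Subgroup G) := by
    refine lt_of_le_of_ne hDS fun he => hxC ?_
    subst he
    exact hself x hxN hxo
  -- Burnside
  have hnc : normalizer ((Pb : Subgroup (X ⧸ K')) : Set (X ⧸ K')) ≤
      centralizer ((Pb : Subgroup (X ⧸ K')) : Set (X ⧸ K')) := by
    intro g hg
    obtain ⟨a, ha⟩ := exists_pow_coprime_two g
    have h1 : g ^ 2 ^ a = 1 := by
      refine keyQ _ ha (S : Subgroup G) hDlt le_rfl fun u hu => ?_
      obtain ⟨v, hv, hvu⟩ := (hPb _).mp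
        ((mem_normalizer_iff.mp (pow_mem hg (2 ^ a)) (π u)).mp ((hPb _).mpr ⟨u, hu, rfl⟩))
      exact ⟨v, hv, hvu.symm⟩
    obtain ⟨i, -, hi⟩ := (Nat.dvd_prime_pow Nat.prime_two).mp (orderOf_dvd_of_pow_eq_one h1)
    have hmem : g ∈ (Pb : Subgroup (X ⧸ K')) := by
      exact (((GStructB.PElements.isPGroup_zpowers hi).inf_normalizer_sylow Pb).le
        ⟨mem_zpowers g, hg⟩).2
    exact fun b hb => hcomm b hb g hmem
  obtain ⟨P0, N, hN, hNP⟩ :=
    Transfer.NormalPComplement.hasNormalPComplement_of_normalizer_le_centralizer Pb hnc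
  have hNiff : ∀ g : X ⧸ K', g ∈ N ↔ (orderOf g).Coprime 2 := fun g =>
    Transfer.NormalPComplement.mem_iff_coprime_of_isComplement' hNP
  set xb : X ⧸ K' := π ⟨x, hxN⟩ with hxb
  have hxb1 : xb ≠ 1 := fun he => hxC (hKodd x ((hπ _).mp he) hxo)
  have hxbo : (orderOf xb).Coprime 2 :=
    Nat.Coprime.coprime_dvd_left ((orderOf_map_dvd π _).trans
      (dvd_of_eq (Subgroup.orderOf_mk x hxN))) hxo
  -- involutions invert `N`
  have hinv : ∀ u ∈ Pb, u ≠ 1 → u * u = 1 → ∀ o ∈ N, u * o * u⁻¹ = o⁻¹ := by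
    intro u hu hu1 hu2 o ho
    obtain ⟨s, hs, rfl⟩ := (hPb u).mp hu
    have hfix : ∀ g ∈ N, π s * g = g * π s → g = 1 := by
      intro g hg hc
      have hDU : D < D ⊔ zpowers (s : G) := by
        refine lt_of_le_of_ne le_sup_left fun he => hu1 ((hπ _).mpr (mem_sup_right ?_))
        rw [he]; exact mem_sup_right (mem_zpowers _)
      refine keyQ g ((hNiff g).mp hg) _ hDU (sup_le hDS (zpowers_le.mpr hs)) fun w hw => ?_
      refine ⟨w, hw, ?_⟩
      -- `g` fixes every element of the image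
      have hw' : (w : G) ∈ ((D ⊔ zpowers (s : G) : Subgroup G) : Set G) := hw
      rw [coe_mul_of_right_le_normalizer_left D _ ((zpowers_le.mpr hs).trans hSN)] at hw'
      obtain ⟨d, hd, z, ⟨n, rfl⟩, he⟩ := hw'
      have hw2 : π w = π s ^ n := by
        rw [← map_zpow, ← mul_inv_eq_one, ← map_inv, ← map_mul, hπ]
        simp only [Subgroup.coe_mul, Subgroup.coe_inv, SubgroupClass.coe_zpow]
        rw [← he]
        simp only [mul_inv_cancel_right]
        exact mem_sup_right hd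
      rw [hw2, mul_inv_eq_iff_eq_mul]
      exact (Commute.zpow_right (show Commute g (π s) from hc.symm) n).eq
    let f : N → N := fun g => ⟨(g : X ⧸ K')⁻¹ * (π s * g * (π s)⁻¹),
      N.mul_mem (N.inv_mem g.2) (hN.conj_mem _ g.2 _)⟩
    have hfinj : Function.Injective f := by
      intro g g' he
      have he' : (g : X ⧸ K')⁻¹ * (π s * g * (π s)⁻¹) =
          (g' : X ⧸ K')⁻¹ * (π s * g' * (π s)⁻¹) := congrArg Subtype.val he
      have h := hfix ((g' : X ⧸ K') * (g : X ⧸ K')⁻¹) (N.mul_mem g'.2 (N.inv_mem g.2)) (by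
        calc π s * ((g' : X ⧸ K') * (g : X ⧸ K')⁻¹)
            = (g' : X ⧸ K') * ((g' : X ⧸ K')⁻¹ * (π s * g' * (π s)⁻¹)) * (π s * (g : X ⧸ K')⁻¹) := by
              group
          _ = _ := by rw [← he']; group)
      exact (Subtype.ext (mul_inv_eq_one.mp h)).symm
    obtain ⟨g, hg⟩ := (Finite.injective_iff_surjective.mp hfinj) ⟨o, ho⟩
    have hg' : (g : X ⧸ K')⁻¹ * (π s * g * (π s)⁻¹) = o := congrArg Subtype.val hg
    rw [← hg']
    have hsinv : (π s)⁻¹ = π s := inv_eq_of_mul_eq_one_right hu2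
    calc π s * ((g : X ⧸ K')⁻¹ * (π s * g * (π s)⁻¹)) * (π s)⁻¹
        = π s * (g : X ⧸ K')⁻¹ * π s * g * ((π s)⁻¹ * (π s)⁻¹) := by group
      _ = π s * (g : X ⧸ K')⁻¹ * (π s)⁻¹ * g * (π s * π s)⁻¹ := by rw [mul_inv_rev, hsinv]
      _ = _ := by rw [hu2]; group
  -- all elements of the Sylow subgroup have square one
  have hsq : ∀ w ∈ Pb, w * w = 1 := by
    by_contra hne
    push_neg at hne
    obtain ⟨w, hw, hw2⟩ := hne
    obtain ⟨k, hk⟩ := GStructB.PElements.exists_orderOf_eq Pb.2 hw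
    have hk2 : 2 ≤ k := by
      by_contra hk'
      exact hw2 (by rw [← pow_two, ← orderOf_dvd_iff_pow_eq_one, hk]
                    exact pow_dvd_pow 2 (by omega : k ≤ 1) |>.trans (dvd_of_eq (pow_one 2)))
    set v := w ^ 2 ^ (k - 2) with hv
    have hv4 : v ^ 4 = 1 := by
      rw [hv, ← pow_mul, show (4 : ℕ) = 2 ^ 2 from rfl, ← pow_add, Nat.sub_add_cancel hk2, ← hk,
        pow_orderOf_eq_one]
    have hv2 : v * v ≠ 1 := by
      rw [← pow_two, hv, ← pow_mul, ← pow_succ]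
      refine pow_ne_one_of_lt_orderOf (pow_ne_zero _ two_ne_zero) ?_
      rw [hk]
      exact Nat.pow_lt_pow_right one_lt_two (by omega)
    obtain ⟨s, hs, hsv⟩ := (hPb v).mp (pow_mem hw _)
    have hu : π (s * s) = v * v := by rw [map_mul, hsv]
    have hcalc := hinv (v * v) (mul_mem (pow_mem hw _) (pow_mem hw _)) hv2 (by rw [← mul_assoc, ← hv4]; simp [pow_succ, mul_assoc])
      xb ((hNiff _).mpr hxbo)
    have hkK : (s : G) * s * x * ((s : G) * s)⁻¹ * x ∈ C ⊔ D := by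
      have h1 : π (s * s * ⟨x, hxN⟩ * (s * s)⁻¹ * ⟨x, hxN⟩) = 1 := by
        rw [map_mul, map_mul, map_mul, map_inv, hu, ← hxb, hcalc, inv_mul_cancel]
      simpa using (hπ _).mp h1
    obtain ⟨hT, hZ⟩ := inverted hcl hDS hcent hxN hxo ((S : Subgroup G).mul_mem hs hs) hkK
    refine hxC (mem_centralizer_of_series hDp hxo (fun z hz => ?_) hT)
    refine fix_of_involutions hDp hxo hxN (fun z hz hz2 => ?_) hz
    have hfixu : ∀ z ∈ Z D, z ^ 2 = 1 → (s : G) * s * z * ((s : G) * s)⁻¹ = z := by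
      intro z hz hz2
      set c := ⁅(s : G), z⁆ with hc
      have e : (s : G) * z * (s : G)⁻¹ = c * z := by rw [hc, commutatorElement_def]; group
      have hcs : c * s = s * c := hcl _ hs _ (hDS hz.1) _ hs
      have hcz : Commute c z := hcl _ hs _ (hDS hz.1) _ (hDS hz.1)
      have hc2 : c ^ 2 = 1 := by
        have h1 : ((s : G) * z * (s : G)⁻¹) ^ 2 = 1 := by rw [conj_pow, hz2]; group
        rwa [e, hcz.mul_pow, hz2, mul_one] at h1
      calc (s : G) * s * z * ((s : G) * s)⁻¹ = (s : G) * ((s : G) * z * (s : G)⁻¹) * (s : G)⁻¹ := by group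
        _ = (s : G) * c * z * (s : G)⁻¹ := by rw [e]; group
        _ = c * ((s : G) * z * (s : G)⁻¹) := by rw [← hcs]; group
        _ = z := by rw [e, ← mul_assoc, ← pow_two, hc2, one_mul]
    have hu' := le_normalizer_of_classTwo hcl hDS hcent ((S : Subgroup G).mul_mem hs hs)
    set u : G := (s : G) * s
    have hz' : u⁻¹ * z * u = z := by
      have h3 := hfixu z hz hz2
      calc u⁻¹ * z * u = u⁻¹ * (u * z * u⁻¹) * u := by rw [h3]
        _ = z := by group
    have hxz : x * z * x⁻¹ ∈ Z D := conj_mem_Z hxN hz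
    have h4 : x * z * x⁻¹ = x⁻¹ * z * x := by
      rw [← hZ z hz]
      calc x * z * x⁻¹ = u * (x * z * x⁻¹) * u⁻¹ :=
            (hfixu _ hxz (by rw [conj_pow, hz2]; group)).symm
        _ = u * x * (u⁻¹ * z * u) * x⁻¹ * u⁻¹ := by rw [hz']; group
        _ = _ := by group
    have h5 : x ^ 2 ∈ centralizer ({z} : Set G) := by
      rw [mem_centralizer_singleton_iff]
      calc x ^ 2 * z = x * (x * z * x⁻¹) * x := by rw [pow_two]; group
        _ = z * x ^ 2 := by rw [h4, pow_two]; group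
    have h6 : x * z = z * x :=
      mem_centralizer_singleton_iff.mp (mem_of_pow (a := 1) hxo (by rwa [pow_one]))
    rw [h6, mul_inv_cancel_right]
  -- at most one involution
  have huniq : ∀ a ∈ Pb, ∀ b ∈ Pb, a ≠ 1 → b ≠ 1 → a = b := by
    intro a ha b hb ha1 hb1
    by_contra hab
    have hbi : b⁻¹ = b := inv_eq_of_mul_eq_one_right (hsq b hb)
    have hab1 : a * b ≠ 1 := fun h => hab (by rw [← hbi]; exact eq_inv_of_mul_eq_one_left h)
    have hxN' : xb ∈ N := (hNiff _).mpr hxbo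
    have h1 : a * b * xb * (a * b)⁻¹ = xb := by
      calc a * b * xb * (a * b)⁻¹ = a * (b * xb * b⁻¹) * a⁻¹ := by group
        _ = (a * xb * a⁻¹)⁻¹ := by rw [hinv b hb hb1 (hsq b hb) xb hxN']; group
        _ = xb := by rw [hinv a ha ha1 (hsq a ha) xb hxN', inv_inv]
    have h2 := hinv (a * b) (mul_mem ha hb) hab1
      (hsq _ (mul_mem ha hb)) xb hxN'
    rw [h1] at h2
    refine hxb1 (orderOf_eq_one_iff.mp (Nat.eq_one_of_dvd_coprimes hxbo dvd_rfl
      (orderOf_dvd_of_pow_eq_one ?_)))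
    rw [pow_two]
    nth_rewrite 2 [h2]
    exact mul_inv_cancel xb
  refine ⟨D, hDS, ?_, hcent, ?_⟩
  · intro s hs t ht hsD htD
    apply hKS _ ((S : Subgroup G).mul_mem hs ((S : Subgroup G).inv_mem ht))
    have h1 := huniq _ ((hPb _).mpr ⟨⟨s, hSN hs⟩, hs, rfl⟩) _ ((hPb _).mpr ⟨⟨t, hSN ht⟩, ht, rfl⟩)
      (fun h => hsD (hKS s hs ((hπ _).mp h))) (fun h => htD (hKS t ht ((hπ _).mp h)))
    obtain ⟨k, hk, he⟩ := hπe _ _ h1
    change s = k * t at he
    rw [he, mul_inv_cancel_right]; exact hk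
  · obtain ⟨t0, ht0, ht0D⟩ := SetLike.exists_of_lt hDlt
    have hinvK : ∀ t ∈ (S : Subgroup G), t ∉ D → t * x * t⁻¹ * x ∈ C ⊔ D := by
      intro t ht htD
      have hm : π ⟨t, hSN ht⟩ ∈ Pb := (hPb _).mpr ⟨⟨t, hSN ht⟩, ht, rfl⟩
      have h := hinv _ hm (fun h => htD (hKS t ht ((hπ _).mp h))) (hsq _ hm) xb
        ((hNiff _).mpr hxbo)
      have h1 : π (⟨t, hSN ht⟩ * ⟨x, hxN⟩ * (⟨t, hSN ht⟩)⁻¹ * ⟨x, hxN⟩) = 1 := by
        rw [map_mul, map_mul, map_mul, map_inv, ← hxb, h, inv_mul_cancel]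
      simpa using (hπ _).mp h1
    exact ⟨x, hxN, hxo, hxC, (inverted hcl hDS hcent hxN hxo ht0 (hinvK t0 ht0 ht0D)).1,
      fun t ht htD => (inverted hcl hDS hcent hxN hxo ht (hinvK t ht htD)).2⟩

end Cfsg.Agent.Components.NilpotentInvariant
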