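import Cfsg.Agent.GStructB.PElements
import Cfsg.Agent.Lib.CN.Basic
import Cfsg.Agent.Lib.Transfer.Frobenius
import Cfsg.Agent.Lib.Coprime.Sylow
import Cfsg.Agent.Lib.PLocal.ThompsonComplement
import Mathlib

/-!
Tools for automizers of subgroups of a Sylow `2`-subgroup of class at most two.
-/

set_option autoImplicit false
set_option linter.all false

namespace Cfsg.Agent.Components.NilpotentInvariant

open Subgroup
open scoped commutatorElement Pointwise
open Cfsg.Agent.PLocal.ThompsonComplement (Z)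

variable {G : Type*} [Group G] [Finite G]

/-- Powers of `k * n` for `k` in a subgroup normalized by `n`. -/
theorem exists_mul_pow {C : Subgroup G} {n k : G} (hn : n ∈ normalizer (C : Set G)) (hk : k ∈ C)
    (j : ℕ) : ∃ c ∈ C, (k * n) ^ j = c * n ^ j := by
  induction j with
  | zero => exact ⟨1, C.one_mem, by simp⟩
  | succ j ih =>
    obtain ⟨c, hc, he⟩ := ih
    refine ⟨c * (n ^ j * k * (n ^ j)⁻¹),
      C.mul_mem hc ((mem_normalizer_iff.mp (pow_mem hn j) k).mp hk), ?_⟩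
    rw [pow_succ, he, pow_succ]; group

theorem exists_pow_coprime_two (n : G) : ∃ a : ℕ, (orderOf (n ^ 2 ^ a)).Coprime 2 := by
  obtain ⟨a, s, ha, hs, -⟩ := GStructB.PElements.exists_split 2 n
  refine ⟨a, ?_⟩
  rw [orderOf_pow' n (pow_ne_zero _ two_ne_zero), ha, Nat.gcd_eq_right (dvd_mul_right _ _),
    Nat.mul_div_cancel_left _ (pow_pos two_pos a)]
  exact (Nat.prime_two.coprime_iff_not_dvd.mpr hs).symm

theorem mem_of_pow {K : Subgroup G} {x : G} (hx : (orderOf x).Coprime 2) (a : ℕ)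
    (h : x ^ 2 ^ a ∈ K) : x ∈ K :=
  Transfer.NormalPComplement.mem_of_pow_mem (n := 2 ^ a) (hx.pow_right a) h

/-- If `k * n` has odd order, and the odd part of `n` is known to lie in `C`, then so does
`k * n`. -/
theorem mem_of_shift {C : Subgroup G} {n k : G} (hn : n ∈ normalizer (C : Set G)) (hk : k ∈ C)
    (ho : (orderOf (k * n)).Coprime 2)
    (h : ∀ a : ℕ, (orderOf (n ^ 2 ^ a)).Coprime 2 → n ^ 2 ^ a ∈ C) : k * n ∈ C := by
  obtain ⟨a, ha⟩ := exists_pow_coprime_two n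
  obtain ⟨c, hc, he⟩ := exists_mul_pow hn hk (2 ^ a)
  exact mem_of_pow ho a (he ▸ C.mul_mem hc (h a ha))

/-- `D` is a `2`-subgroup all whose overgroups of larger order have `2`-groups as automizers. -/
def MaxBad (D : Subgroup G) : Prop :=
  (IsPGroup 2 D ∧ ∃ x ∈ normalizer (D : Set G), (orderOf x).Coprime 2 ∧ x ∉ centralizer (D : Set G)) ∧
    ∀ Q : Subgroup G, IsPGroup 2 Q → Nat.card D < Nat.card Q →
      ∀ g ∈ normalizer (Q : Set G), (orderOf g).Coprime 2 → g ∈ centralizer (Q : Set G)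

theorem exists_maxBad (h : ¬ Transfer.Frobenius.Condition 2 G) (S : Sylow 2 G) :
    ∃ D : Subgroup G, D ≤ (S : Subgroup G) ∧ MaxBad D := by
  simp only [Transfer.Frobenius.Condition, not_forall] at h
  obtain ⟨Q, hQ, g, hg, ho, hc⟩ := h
  obtain ⟨E, hE, hmax⟩ := Set.Finite.exists_maximalFor (fun Q : Subgroup G => Nat.card Q) _
    (Set.toFinite {Q : Subgroup G | IsPGroup 2 Q ∧
      ∃ g ∈ normalizer (Q : Set G), (orderOf g).Coprime 2 ∧ g ∉ centralizer (Q : Set G)})
    ⟨Q, hQ, g, hg, ho, hc⟩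
  obtain ⟨hEp, x, hx, hxo, hxc⟩ := hE
  obtain ⟨R, hR⟩ := hEp.exists_le_sylow
  obtain ⟨c, hc'⟩ := MulAction.exists_smul_eq G R S
  refine ⟨E.map (MulAut.conj c).toMonoidHom, ?_, ⟨hEp.map _, c * x * c⁻¹, ?_, ?_, ?_⟩, ?_⟩
  · rw [← hc', Transfer.Fusion.coe_smul_eq_map]
    exact map_mono hR
  · exact le_normalizer_map (MulAut.conj c).toMonoidHom ⟨x, hx, by simp⟩
  · rw [← MulAut.conj_apply c x, MulEquiv.orderOf_eq]
    exact hxo
  · intro h1
    refine hxc fun q hq => ?_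
    have h2 : c * q * c⁻¹ * (c * x * c⁻¹) = c * x * c⁻¹ * (c * q * c⁻¹) :=
      h1 _ ⟨q, hq, rfl⟩
    calc q * x = c⁻¹ * (c * q * c⁻¹ * (c * x * c⁻¹)) * c := by group
      _ = c⁻¹ * (c * x * c⁻¹ * (c * q * c⁻¹)) * c := by rw [h2]
      _ = x * q := by group
  · intro Q' hQ' hlt g' hg' ho'
    rw [card_map_of_injective (MulAut.conj c).injective] at hlt
    by_contra hbad
    have h3 : Nat.card Q' ≤ Nat.card E := hmax ⟨hQ', g', hg', ho', hbad⟩ hlt.le
    omega

theorem card_lt_of_lt {A B : Subgroup G} (h : A < B) : Nat.card A < Nat.card B := by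
  by_contra hc
  exact h.ne (eq_of_le_of_card_ge h.le (not_lt.mp hc))

theorem centralizer_normalizer {D : Subgroup G} {n : G} (hn : n ∈ normalizer (D : Set G)) :
    n ∈ normalizer ((centralizer (D : Set G) : Subgroup G) : Set G) := by
  rw [← Transfer.Fusion.map_conj_eq_self_iff, ← PLocal.ThompsonComplement.centralizer_map_equiv,
    Transfer.Fusion.map_conj_eq_self_iff.mpr hn]

/-- In a maximal bad subgroup every `2`-element of the centralizer lies inside. -/
theorem MaxBad.centric {D : Subgroup G} (hD : MaxBad D) {z : G} {j : ℕ} (hz : z ^ 2 ^ j = 1)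
    (hzc : z ∈ centralizer (D : Set G)) : z ∈ D := by
  obtain ⟨⟨hDp, x, hxN, hxo, hxC⟩, hmax⟩ := hD
  set C := centralizer (D : Set G) with hC
  obtain ⟨T⟩ : Nonempty (Sylow 2 C) := inferInstance
  set U := (T : Subgroup C).map C.subtype with hU
  have hUC : U ≤ C := map_subtype_le _
  by_cases hle : U ≤ D
  · have hn : (T : Subgroup C).Normal := by
      refine ⟨fun s hs u => ?_⟩
      have h1 : (s : G) ∈ D := hle ⟨s, hs, rfl⟩
      have h2 := mem_centralizer_iff.mp u.2 _ h1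
      have : u * s * u⁻¹ = s := Subtype.ext (by
        show (u : G) * s * (u : G)⁻¹ = s
        rw [← h2, mul_inv_cancel_right])
      rw [this]; exact hs
    refine hle ⟨⟨z, hzc⟩, ?_, rfl⟩
    have hp : IsPGroup 2 (zpowers (⟨z, hzc⟩ : C)) := by
      obtain ⟨i, -, hi⟩ := (Nat.dvd_prime_pow Nat.prime_two).mp (orderOf_dvd_of_pow_eq_one
        (show (⟨z, hzc⟩ : C) ^ 2 ^ j = 1 from Subtype.ext hz))
      exact GStructB.PElements.isPGroup_zpowers hi
    obtain ⟨T', hT'⟩ := hp.exists_le_sylow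
    have hsub : Subsingleton (Sylow 2 C) := by
      refine ⟨fun A B => ?_⟩
      obtain ⟨g, rfl⟩ := MulAction.exists_smul_eq C T A
      obtain ⟨g', rfl⟩ := MulAction.exists_smul_eq C T B
      rw [Sylow.smul_eq_of_normal, Sylow.smul_eq_of_normal]
    rw [Subsingleton.elim T T']
    exact hT' (mem_zpowers _)
  exfalso
  have hR : IsPGroup 2 (D ⊔ U : Subgroup G) :=
    hDp.to_sup_of_normal_left' (T.2.map C.subtype) (hUC.trans (centralizer_le_normalizer (D : Set G)))
  have hlt : D < D ⊔ U := lt_of_le_of_ne le_sup_left fun he => hle (le_sup_right.trans he.ge)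
  obtain ⟨k, hk, hke⟩ := Coprime.exists_conj_sylow_map (H := MulAut.conj x • U) (K := C) (p := 2)
    (by
      refine le_trans (pointwise_smul_le_pointwise_smul_iff.mpr hUC) (le_of_eq ?_)
      exact Coprime.conj_smul_eq_self_iff.mpr (centralizer_normalizer hxN))
    T (by rw [Coprime.card_conj_smul, hU, card_subtype])
  have hnN : k⁻¹ * x ∈ normalizer (D : Set G) :=
    mul_mem (inv_mem (centralizer_le_normalizer (D : Set G) hk)) hxN
  have hnU : k⁻¹ * x ∈ normalizer (U : Set G) := by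
    rw [← Coprime.conj_smul_eq_self_iff, Coprime.conj_smul_mul, hke, Coprime.conj_inv_smul_smul]
  have hnR : k⁻¹ * x ∈ normalizer ((D ⊔ U : Subgroup G) : Set G) := by
    rw [← Transfer.Fusion.map_conj_eq_self_iff, Subgroup.map_sup,
      Transfer.Fusion.map_conj_eq_self_iff.mpr hnN, Transfer.Fusion.map_conj_eq_self_iff.mpr hnU]
  apply hxC
  rw [← mul_inv_cancel_left k x]
  refine mem_of_shift (centralizer_normalizer hnN) hk (by rwa [mul_inv_cancel_left]) fun a ha => ?_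
  exact centralizer_le (SetLike.coe_subset_coe.mpr (le_sup_left : D ≤ D ⊔ U))
    (hmax _ hR (card_lt_of_lt hlt) _ (pow_mem hnR _) ha)

/-- An element of odd order shifting `z` by a fixed `2`-element fixes it. -/
theorem eq_one_of_shift {x z ζ : G} (hxo : (orderOf x).Coprime 2) {j : ℕ} (hζ : ζ ^ 2 ^ j = 1)
    (hfix : x * ζ * x⁻¹ = ζ) (h : x * z * x⁻¹ = ζ * z) : ζ = 1 := by
  have hn : ∀ n : ℕ, x ^ n * z * (x ^ n)⁻¹ = ζ ^ n * z := by
    intro n
    induction n with
    | zero => simp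
    | succ n ih =>
      have e1 : (x * ζ * x⁻¹) ^ n = x * ζ ^ n * x⁻¹ := conj_pow
      calc x ^ (n + 1) * z * (x ^ (n + 1))⁻¹ = x * (x ^ n * z * (x ^ n)⁻¹) * x⁻¹ := by
            rw [pow_succ']; group
        _ = (x * ζ ^ n * x⁻¹) * (x * z * x⁻¹) := by rw [ih]; group
        _ = ζ ^ (n + 1) * z := by rw [← e1, hfix, h, ← mul_assoc, ← pow_succ]
  have h1 := hn (orderOf x)
  rw [pow_orderOf_eq_one, one_mul, inv_one, mul_one] at h1
  have h2 : ζ ^ orderOf x = 1 := mul_eq_right.mp h1.symm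
  exact orderOf_eq_one_iff.mp (Nat.eq_one_of_dvd_coprimes (hxo.pow_right j)
    (orderOf_dvd_of_pow_eq_one h2) (orderOf_dvd_of_pow_eq_one hζ))

theorem exists_pow_eq_one {D : Subgroup G} (hD : IsPGroup 2 D) {d : G} (hd : d ∈ D) :
    ∃ j : ℕ, d ^ 2 ^ j = 1 := by
  obtain ⟨j, hj⟩ := hD ⟨d, hd⟩
  exact ⟨j, congrArg Subtype.val hj⟩

theorem conj_mem_Z {D : Subgroup G} {n z : G} (hn : n ∈ normalizer (D : Set G)) (hz : z ∈ Z D) :
    n * z * n⁻¹ ∈ Z D :=
  (mem_normalizer_iff.mp (PLocal.ThompsonComplement.normalizer_le_Z D hn) z).mp hz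

/-- An element of odd order fixing `Z(D)` and `D/Z(D)` centralizes `D`. -/
theorem mem_centralizer_of_series {D : Subgroup G} (hD : IsPGroup 2 D) {x : G}
    (hxo : (orderOf x).Coprime 2) (h1 : ∀ z ∈ Z D, x * z * x⁻¹ = z)
    (h2 : ∀ d ∈ D, x * d * x⁻¹ * d⁻¹ ∈ Z D) : x ∈ centralizer (D : Set G) := by
  intro d hd
  obtain ⟨j, hj⟩ := exists_pow_eq_one hD (h2 d hd).1
  have h3 : x * d * x⁻¹ * d⁻¹ = 1 :=
    eq_one_of_shift hxo (z := d) hj (h1 _ (h2 d hd)) (by group)
  calc d * x = (x * d * x⁻¹ * d⁻¹)⁻¹ * (x * d) := by group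
    _ = x * d := by rw [h3, inv_one, one_mul]

/-- An element of odd order fixing the involutions of `Z(D)` fixes `Z(D)`. -/
theorem fix_of_involutions {D : Subgroup G} (hD : IsPGroup 2 D) {x : G}
    (hxo : (orderOf x).Coprime 2) (hxN : x ∈ normalizer (D : Set G))
    (h : ∀ z ∈ Z D, z ^ 2 = 1 → x * z * x⁻¹ = z) {z : G} (hz : z ∈ Z D) : x * z * x⁻¹ = z := by
  suffices ∀ k : ℕ, ∀ z ∈ Z D, z ^ 2 ^ k = 1 → x * z * x⁻¹ = z by
    obtain ⟨k, hk⟩ := exists_pow_eq_one hD hz.1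
    exact this k z hz hk
  intro k
  induction k with
  | zero => intro z _ h1; rw [pow_zero, pow_one] at h1; simp [h1]
  | succ k ih =>
    intro z hz hzk
    have h2 : x * z ^ 2 * x⁻¹ = z ^ 2 :=
      ih _ ((Z D).pow_mem hz 2) (by rw [← pow_mul, ← pow_succ']; exact hzk)
    set w := x * z * x⁻¹ with hw
    have hwZ : w ∈ Z D := conj_mem_Z hxN hz
    have hcomm : Commute w z := (hwZ.2 z hz.1).symm
    have hsq : (w * z⁻¹) ^ 2 = 1 := by
      rw [(hcomm.inv_right).mul_pow, inv_pow, hw, conj_pow, h2, mul_inv_cancel]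
    have hmem : w * z⁻¹ ∈ Z D := (Z D).mul_mem hwZ ((Z D).inv_mem hz)
    have h3 : w * z⁻¹ = 1 :=
      eq_one_of_shift hxo (z := z) (j := 1) (by rw [pow_one]; exact hsq) (h _ hmem hsq)
        (by rw [inv_mul_cancel_right])
    exact mul_inv_eq_one.mp h3

end Cfsg.Agent.Components.NilpotentInvariant
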