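import Cfsg.Agent.Lib.Components.NilpotentInvariant.Automizer

/-!
Two good subgroups whose centres do not commute determine each other; an orbit of odd length has
commuting centres.
-/

set_option autoImplicit false
set_option linter.all false

namespace Cfsg.Agent.Components.NilpotentInvariant

open Subgroup
open scoped commutatorElement Pointwise
open Cfsg.Agent.PLocal.ThompsonComplement (Z)

variable {G : Type*} [Group G] [Finite G]

theorem comm_eq_one_iff {a b : G} : ⁅a, b⁆ = 1 ↔ a * b = b * a :=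
  commutatorElement_eq_one_iff_mul_comm

/-- Some element of the centre of `D'` does not commute with some element of the centre of `D`. -/
def Adj (D D' : Subgroup G) : Prop :=
  ∃ ξ ∈ Z D, ∃ η ∈ Z D', ⁅η, ξ⁆ ≠ 1

theorem Adj.symm {D D' : Subgroup G} (h : Adj D D') : Adj D' D := by
  obtain ⟨ξ, hξ, η, hη, hne⟩ := h
  refine ⟨η, hη, ξ, hξ, fun he => hne ?_⟩
  rw [← commutatorElement_inv, he, inv_one]

/-- What adjacency says about `D` : an involution `w` and a commutator `c`. -/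
structure Edge (S D : Subgroup G) (c w : G) : Prop where
  c_ne : c ≠ 1
  c_sq : c * c = 1
  w_mem : w ∈ Z D
  w_sq : w * w = 1
  comm_w : ∀ s ∈ S, s ∉ D → ⁅s, w⁆ = c
  unique : ∀ ξ ∈ Z D, ∀ s ∈ S, ⁅s, ξ⁆ = 1 ∨ ⁅s, ξ⁆ = c
  not_comm : ∀ d ∈ D, ∀ e ∈ D, ⁅d, e⁆ ≠ c
  not_sq : ∀ ξ ∈ Z D, ξ * ξ ≠ c

theorem exists_edge {S D D' : Subgroup G} (hS : IsPGroup 2 S) (hcl : ClassTwo S) (hD : Good S D) (hD' : Good S D')
    (h : Adj D D') : ∃ c w, Edge S D c w := by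
  obtain ⟨ξ₀, hξ₀, η, hη, hne⟩ := h
  obtain ⟨x, hxN, hxo, hxC, hxD, hxZ⟩ := hD.act
  have hSN : S ≤ normalizer (D : Set G) := le_normalizer_of_classTwo hcl hD.le hD.cent
  have hηS : η ∈ S := hD'.le hη.1
  have hηD : η ∉ D := fun h => hne (comm_eq_one_iff.mpr (hξ₀.2 η h))
  have hξ₀D' : ξ₀ ∉ D' := fun h => hne (comm_eq_one_iff.mpr (hη.2 ξ₀ h).symm)
  set c := ⁅η, ξ₀⁆ with hc
  have hfix : ∀ ξ ∈ Z D, ∀ s ∈ S, s * ⁅η, ξ⁆ = ⁅η, ξ⁆ * s := fun ξ hξ s hs =>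
    (hcl η hηS ξ (hD.le hξ.1) s hs).symm
  have hconj : ∀ ξ ∈ Z D, η * ξ * η⁻¹ = ⁅η, ξ⁆ * ξ := fun ξ _ => by
    rw [commutatorElement_def]; group
  -- elements of `Z D` inside `D'` are central in `S`
  have hcen : ∀ ξ ∈ Z D, ξ ∈ D' → ∀ s ∈ S, ξ * s = s * ξ := by
    intro ξ hξ hξ' s hs
    by_cases hsD : s ∈ D
    · exact (hξ.2 s hsD).symm
    · have h1 : (s * η⁻¹) * ξ = ξ * (s * η⁻¹) := hξ.2 _ (hD.index s hs η hηS hsD hηD)
      have h2 : ξ * η = η * ξ := hη.2 ξ hξ'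
      calc ξ * s = ξ * (s * η⁻¹) * η := by group
        _ = (s * η⁻¹) * ξ * η := by rw [h1]
        _ = s * η⁻¹ * (ξ * η) := by group
        _ = s * ξ := by rw [h2]; group
  -- two values of the commutator map
  have hval : ∀ ξ ∈ Z D, ∀ s ∈ S, s ∉ D → ⁅s, ξ⁆ = ⁅η, ξ⁆ := by
    intro ξ hξ s hs hsD
    have h1 : (s * η⁻¹) * ξ = ξ * (s * η⁻¹) := hξ.2 _ (hD.index s hs η hηS hsD hηD)
    set d := s * η⁻¹ with hd
    have hs' : s = d * η := by rw [hd]; group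
    have hdS : d ∈ S := S.mul_mem hs (S.inv_mem hηS)
    have h2 : d * ⁅η, ξ⁆ = ⁅η, ξ⁆ * d := hfix ξ hξ d hdS
    calc ⁅s, ξ⁆ = d * ⁅η, ξ⁆ * (ξ * d⁻¹ * ξ⁻¹) := by
          rw [hs', commutatorElement_def, commutatorElement_def]; group
      _ = ⁅η, ξ⁆ * ((d * ξ) * d⁻¹ * ξ⁻¹) := by rw [h2]; group
      _ = ⁅η, ξ⁆ := by rw [h1]; group
  have hηc : ∀ ξ ∈ Z D, ⁅η, ξ⁆ = 1 ∨ ⁅η, ξ⁆ = c := by
    intro ξ hξ
    by_cases hξ' : ξ ∈ D'
    · exact Or.inl (comm_eq_one_iff.mpr (hη.2 ξ hξ').symm)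
    · right
      have hq := hD'.index ξ (hD.le hξ.1) ξ₀ (hD.le hξ₀.1) hξ' hξ₀D'
      set ζ := ξ * ξ₀⁻¹ with hζ
      have hζc := hcen ζ ((Z D).mul_mem hξ ((Z D).inv_mem hξ₀)) hq η hηS
      have hξe : ξ = ζ * ξ₀ := by rw [hζ]; group
      have h2 : ζ * c = c * ζ :=
        (hcl η hηS ξ₀ (hD.le hξ₀.1) ζ (hD.le (D.mul_mem hξ.1 (D.inv_mem hξ₀.1)))).symm
      calc ⁅η, ξ⁆ = (η * ζ) * ξ₀ * η⁻¹ * ξ₀⁻¹ * ζ⁻¹ := by
            rw [hξe, commutatorElement_def]; group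
        _ = ζ * c * ζ⁻¹ := by rw [← hζc, hc, commutatorElement_def]; group
        _ = c := by rw [h2]; group
  have hcZ : c ∈ Z D := commutator_mem_Z hcl hD.le hD.cent hηS (hD.le hξ₀.1)
  have hcS : ∀ s ∈ S, s * c = c * s := hfix ξ₀ hξ₀
  have hηη : η * η ∈ D := by
    have h := hD.index η hηS η⁻¹ (S.inv_mem hηS) hηD (fun h => hηD (by simpa using D.inv_mem h))
    rwa [inv_inv] at h
  have hc2 : c * c = 1 := by
    have h1 : η * η * ξ₀ = ξ₀ * (η * η) := hξ₀.2 _ hηη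
    have e : η * η * ξ₀ * (η * η)⁻¹ = c * c * ξ₀ := by
      calc η * η * ξ₀ * (η * η)⁻¹ = η * (η * ξ₀ * η⁻¹) * η⁻¹ := by group
        _ = η * (c * ξ₀) * η⁻¹ := by rw [hconj ξ₀ hξ₀]
        _ = (η * c) * ξ₀ * η⁻¹ := by group
        _ = (c * η) * ξ₀ * η⁻¹ := by rw [hcS η hηS]
        _ = c * (η * ξ₀ * η⁻¹) := by group
        _ = c * (c * ξ₀) := by rw [hconj ξ₀ hξ₀]
        _ = c * c * ξ₀ := (mul_assoc _ _ _).symm
    rw [h1, mul_inv_cancel_right] at e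
    exact mul_eq_right.mp e.symm
  have hci : c⁻¹ = c := inv_eq_of_mul_eq_one_right hc2
  have hsqc : ∀ ξ ∈ Z D, η * (ξ * ξ) * η⁻¹ = ξ * ξ := by
    intro ξ hξ
    rcases hηc ξ hξ with h | h
    · have h' : η * ξ * η⁻¹ = ξ := by rw [hconj ξ hξ, h, one_mul]
      calc η * (ξ * ξ) * η⁻¹ = (η * ξ * η⁻¹) * (η * ξ * η⁻¹) := by group
        _ = ξ * ξ := by rw [h']
    · have h' : η * ξ * η⁻¹ = c * ξ := by rw [hconj ξ hξ, h]
      calc η * (ξ * ξ) * η⁻¹ = (η * ξ * η⁻¹) * (η * ξ * η⁻¹) := by group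
        _ = c * (ξ * c) * ξ := by rw [h']; group
        _ = (c * c) * (ξ * ξ) := by rw [hcS ξ (hD.le hξ.1)]; group
        _ = ξ * ξ := by rw [hc2, one_mul]
  -- `x` moves `c`
  have hxc : x * c * x⁻¹ ≠ c := by
    intro hxc
    apply hxC
    refine mem_centralizer_of_series (hS.to_le hD.le) hxo ?_ hxD
    intro z hz
    have hηi : η⁻¹ ∉ D := fun h => hηD (by simpa using D.inv_mem h)
    -- conjugation by `η` or its inverse changes elements of `Z D` by `1` or `c`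
    have hpm : ∀ z ∈ Z D, ∀ s ∈ S, s ∉ D → ∃ e, (e = 1 ∨ e = c) ∧ s * z * s⁻¹ = e * z := by
      intro z hz s hs hsD
      refine ⟨⁅η, z⁆, hηc z hz, ?_⟩
      rw [← hval z hz s hs hsD, commutatorElement_def]; group
    obtain ⟨e, he, hez⟩ := hpm z hz η⁻¹ (S.inv_mem hηS) hηi
    rw [inv_inv] at hez
    have hxz : x * z * x⁻¹ ∈ Z D := conj_mem_Z hxN hz
    obtain ⟨e', he', hez'⟩ := hpm _ hxz η hηS hηD
    have hxe : x * e * x⁻¹ = e := by rcases he with rfl | rfl <;> simp [hxc]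
    have hηe : η * e * η⁻¹ = e := by
      rcases he with rfl | rfl
      · simp
      · rw [hcS η hηS, mul_inv_cancel_right]
    have h1 := hxZ η hηS hηD z hz
    have h2 : η * x * η⁻¹ * z * (η * x * η⁻¹)⁻¹ = e * e' * (x * z * x⁻¹) := by
      calc η * x * η⁻¹ * z * (η * x * η⁻¹)⁻¹
          = η * (x * (η⁻¹ * z * η) * x⁻¹) * η⁻¹ := by group
        _ = η * ((x * e * x⁻¹) * (x * z * x⁻¹)) * η⁻¹ := by rw [hez]; group
        _ = (η * e * η⁻¹) * (η * (x * z * x⁻¹) * η⁻¹) := by rw [hxe]; group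
        _ = _ := by rw [hηe, hez']; group
    rw [h2] at h1
    have hee : e * e' = 1 ∨ e * e' = c := by
      rcases he with rfl | rfl <;> rcases he' with rfl | rfl <;> simp [hc2]
    set δ := e * e' with hδ
    have hxδ : x * δ * x⁻¹ = δ := by rcases hee with h | h <;> rw [h] <;> simp [hxc]
    have hx2o : (orderOf (x ^ 2)).Coprime 2 := hxo.coprime_dvd_left (orderOf_pow_dvd 2)
    have hδi : δ⁻¹ = δ := by rcases hee with h | h <;> simp [h, hci]
    have h3 : x ^ 2 * z * (x ^ 2)⁻¹ = δ * z := by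
      have h4 : x * z * x⁻¹ = δ * (x⁻¹ * z * x) := by
        rw [← h1, ← mul_assoc]
        nth_rewrite 1 [← hδi]
        rw [inv_mul_cancel, one_mul]
      calc x ^ 2 * z * (x ^ 2)⁻¹ = x * (x * z * x⁻¹) * x⁻¹ := by rw [pow_two]; group
        _ = (x * δ * x⁻¹) * z := by rw [h4]; group
        _ = δ * z := by rw [hxδ]
    have hxδ2 : x ^ 2 * δ * (x ^ 2)⁻¹ = δ := by
      calc x ^ 2 * δ * (x ^ 2)⁻¹ = x * (x * δ * x⁻¹) * x⁻¹ := by rw [pow_two]; group
        _ = δ := by rw [hxδ, hxδ]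
    have hδ2 : δ ^ 2 ^ 1 = 1 := by rcases hee with h | h <;> simp [h, pow_two, hc2]
    rw [eq_one_of_shift hx2o hδ2 hxδ2 h3, one_mul, mul_inv_eq_iff_eq_mul] at h3
    have h6 : x * z = z * x := mem_centralizer_singleton_iff.mp
      (mem_of_pow (a := 1) hxo (mem_centralizer_singleton_iff.mpr (by rwa [pow_one])))
    rw [h6, mul_inv_cancel_right]
  set w := x * c * x⁻¹ with hw
  have hwZ : w ∈ Z D := conj_mem_Z hxN hcZ
  have hwη : ⁅η, w⁆ = c := by
    refine (hηc w hwZ).resolve_left fun h => hxc ?_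
    have h' : η * w * η⁻¹ = w := by rw [comm_eq_one_iff.mp h, mul_inv_cancel_right]
    have h1 := hxZ η hηS hηD c hcZ
    have h2 : η * x * η⁻¹ * c * (η * x * η⁻¹)⁻¹ = w := by
      calc η * x * η⁻¹ * c * (η * x * η⁻¹)⁻¹ = η * x * (η⁻¹ * (c * η)) * x⁻¹ * η⁻¹ := by group
        _ = η * w * η⁻¹ := by rw [← hcS η hηS, hw]; group
        _ = w := h'
    rw [h2, hw] at h1
    have h5 : x ^ 2 * c = c * x ^ 2 := by
      calc x ^ 2 * c = x * (x * c * x⁻¹) * x := by rw [pow_two]; group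
        _ = c * x ^ 2 := by rw [h1, pow_two]; group
    have h6 : x * c = c * x := mem_centralizer_singleton_iff.mp
      (mem_of_pow (a := 1) hxo (mem_centralizer_singleton_iff.mpr (by rwa [pow_one])))
    rw [hw, h6, mul_inv_cancel_right]
  refine ⟨c, w, hne, hc2, hwZ, ?_, ?_, ?_, ?_, ?_⟩
  · rw [hw]
    calc x * c * x⁻¹ * (x * c * x⁻¹) = x * (c * c) * x⁻¹ := by group
      _ = 1 := by rw [hc2, mul_one, mul_inv_cancel]
  · intro s hs hsD
    rw [hval w hwZ s hs hsD, hwη]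
  · intro ξ hξ s hs
    by_cases hsD : s ∈ D
    · exact Or.inl (comm_eq_one_iff.mpr (hξ.2 s hsD))
    · rw [hval ξ hξ s hs hsD]; exact hηc ξ hξ
  · -- commutators in `D` are fixed by `x`
    intro d hd e he hde
    apply hxc
    set ζ := x * d * x⁻¹ * d⁻¹ with hζ
    set θ := x * e * x⁻¹ * e⁻¹ with hθ
    have hζc : ∀ y ∈ D, y * ζ = ζ * y := (hxD d hd).2
    have hθc : ∀ y ∈ D, y * θ = θ * y := (hxD e he).2
    show x * c * x⁻¹ = c
    rw [← hde]
    have hy : (d * e * d⁻¹) * ζ = ζ * (d * e * d⁻¹) :=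
      hζc _ (D.mul_mem (D.mul_mem hd he) (D.inv_mem hd))
    calc x * ⁅d, e⁆ * x⁻¹ = (ζ * d) * (θ * e) * (ζ * d)⁻¹ * (θ * e)⁻¹ := by
          rw [hζ, hθ, commutatorElement_def]; group
      _ = ζ * (d * θ) * e * d⁻¹ * ζ⁻¹ * e⁻¹ * θ⁻¹ := by group
      _ = ζ * (θ * d) * e * d⁻¹ * ζ⁻¹ * e⁻¹ * θ⁻¹ := by rw [hθc d hd]
      _ = (ζ * θ) * ((d * e * d⁻¹) * ζ⁻¹ * e⁻¹ * θ⁻¹) := by group
      _ = (θ * ζ) * ((d * e * d⁻¹) * ζ⁻¹ * e⁻¹ * θ⁻¹) := by rw [hθc ζ (hxD d hd).1]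
      _ = θ * ((ζ * (d * e * d⁻¹)) * ζ⁻¹ * e⁻¹ * θ⁻¹) := by group
      _ = θ * (((d * e * d⁻¹) * ζ) * ζ⁻¹ * e⁻¹ * θ⁻¹) := by rw [hy]
      _ = θ * (⁅d, e⁆ * θ⁻¹) := by rw [commutatorElement_def]; group
      _ = ⁅d, e⁆ := by
          have hy := hθc ⁅d, e⁆ (commutator_mem_Z hcl hD.le hD.cent (hD.le hd) (hD.le he)).1
          rw [← mul_assoc, ← hy, mul_inv_cancel_right]
  · intro ξ hξ hξc
    set ξ' := x * ξ * x⁻¹ with hξ'
    have h1 : w = ξ' * ξ' := by rw [hw, ← hξc, hξ']; group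
    have h2 := hsqc ξ' (conj_mem_Z hxN hξ)
    rw [← h1] at h2
    apply hne
    rw [← hwη, commutatorElement_def, h2, mul_inv_cancel]

/-- A good subgroup is adjacent to at most one other. -/
theorem adj_unique {S D D' D'' : Subgroup G} (hS : IsPGroup 2 S) (hcl : ClassTwo S) (hD : Good S D)
    (hD' : Good S D') (hD'' : Good S D'') (h' : Adj D D') (h'' : Adj D D'') : D' = D'' := by
  obtain ⟨c, ξ, hE⟩ := exists_edge hS hcl hD hD' h'
  obtain ⟨c', η, hE'⟩ := exists_edge hS hcl hD' hD h'.symm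
  obtain ⟨c'', ζ, hE''⟩ := exists_edge hS hcl hD'' hD h''.symm
  have hci : c⁻¹ = c := inv_eq_of_mul_eq_one_right hE.c_sq
  have hξS : ξ ∈ S := hD.le hE.w_mem.1
  have hηS : η ∈ S := hD'.le hE'.w_mem.1
  have hζS : ζ ∈ S := hD''.le hE''.w_mem.1
  -- the involutions do not lie in the neighbours
  have key : ∀ {E E' : Subgroup G} {e v e' v' : G}, Good S E → Good S E' → Adj E E' →
      Edge S E e v → Edge S E' e' v' → v' ∉ E ∧ e' = e⁻¹ := by
    intro E E' e v e' v' hE1 hE2 hadj he he'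
    obtain ⟨a, ha, b, hb, hne⟩ := hadj
    have hbE : b ∉ E := fun h => hne (comm_eq_one_iff.mpr (ha.2 b h))
    have hvE' : v ∉ E' := by
      intro h
      have h1 := he.comm_w b (hE2.le hb.1) hbE
      exact he.c_ne (h1 ▸ comm_eq_one_iff.mpr (hb.2 v h).symm)
    have h3 := he'.comm_w v (hE1.le he.w_mem.1) hvE'
    have hv'E : v' ∉ E := fun h =>
      he'.c_ne (h3 ▸ comm_eq_one_iff.mpr (he.w_mem.2 v' h).symm)
    refine ⟨hv'E, ?_⟩
    rw [← h3, ← he.comm_w v' (hE2.le he'.w_mem.1) hv'E, commutatorElement_inv]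
  obtain ⟨hηD, hc'⟩ := key hD hD' h' hE hE'
  obtain ⟨hζD, hc''⟩ := key hD hD'' h'' hE hE''
  obtain ⟨hξD', -⟩ := key hD' hD h'.symm hE' hE
  rw [hci] at hc' hc''
  rw [hc'] at hE'
  rw [hc''] at hE''
  -- `D'` is the centralizer of `η` in `S`
  have hcentη : ∀ {E : Subgroup G} {v : G}, Good S E → Edge S E c v → ∀ s ∈ S,
      (s ∈ E ↔ s * v = v * s) := by
    intro E v hE1 he s hs
    refine ⟨fun h => he.w_mem.2 s h, fun h => ?_⟩
    by_contra hsE
    exact he.c_ne (he.comm_w s hs hsE ▸ comm_eq_one_iff.mpr h)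
  set d := ζ * η⁻¹ with hd
  have hdD : d ∈ D := hD.index ζ hζS η hηS hζD hηD
  have hdS : d ∈ S := hD.le hdD
  have hζd : ζ = d * η := by rw [hd]; group
  -- `d` centralizes `D ∩ D'`
  have hI : ∀ j ∈ D, j ∈ D' → d * j = j * d := by
    intro j hj hj'
    have h1 : ⁅j, ζ⁆ = ⁅j, d⁆ := by
      have e1 : j * η = η * j := hE'.w_mem.2 j hj'
      calc ⁅j, ζ⁆ = j * d * ((η * j⁻¹) * η⁻¹) * d⁻¹ := by
            rw [hζd, commutatorElement_def]; group
        _ = j * d * ((η * j⁻¹) * (η⁻¹)) * d⁻¹ := by group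
        _ = j * d * j⁻¹ * d⁻¹ := by
          have e2 : η * j⁻¹ = j⁻¹ * η := by
            calc η * j⁻¹ = j⁻¹ * (j * η) * j⁻¹ := by group
              _ = j⁻¹ * η := by rw [e1]; group
          rw [e2]; group
        _ = _ := by rw [commutatorElement_def]
    rcases hE''.unique ζ hE''.w_mem j (hD.le hj) with h | h
    · exact (comm_eq_one_iff.mp (h1 ▸ h)).symm
    · exact absurd (h1 ▸ h) (hE.not_comm j hj d hdD)
  -- generation of `S`
  have hcentral : ∀ i ∈ D, i ∈ D' → (∀ j ∈ D, j ∈ D' → i * j = j * i) → ∀ s ∈ S, i * s = s * i := by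
    intro i hi hi' hij s hs
    have hiξ : i * ξ = ξ * i := hE.w_mem.2 i hi
    have hiη : i * η = η * i := hE'.w_mem.2 i hi'
    suffices hDs : ∀ s ∈ D, i * s = s * i by
      by_cases hsD : s ∈ D
      · exact hDs s hsD
      · have h1 := hDs _ (hD.index s hs η hηS hsD hηD)
        calc i * s = (i * (s * η⁻¹)) * η := by group
          _ = (s * η⁻¹) * (i * η) := by rw [h1]; group
          _ = s * i := by rw [hiη]; group
    intro s hs
    by_cases hs' : s ∈ D'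
    · exact hij s hs hs'
    · have h1 := hij _ (D.mul_mem hs (D.inv_mem hE.w_mem.1))
        (hD'.index s (hD.le hs) ξ hξS hs' hξD')
      calc i * s = (i * (s * ξ⁻¹)) * ξ := by group
        _ = (s * ξ⁻¹) * (i * ξ) := by rw [h1]; group
        _ = s * i := by rw [hiξ]; group
  by_cases hdD' : d ∈ D'
  · have hcd := hcentral d hdD hdD' hI
    ext s
    constructor
    · intro h
      have hsS := hD'.le h
      rw [hcentη hD'' hE'' s hsS, hζd]
      calc s * (d * η) = (s * d) * η := by group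
        _ = d * (s * η) := by rw [← hcd s hsS]; group
        _ = d * η * s := by rw [(hcentη hD' hE' s hsS).mp h]; group
    · intro h
      have hsS := hD''.le h
      rw [hcentη hD' hE' s hsS]
      have h1 := (hcentη hD'' hE'' s hsS).mp h
      rw [hζd] at h1
      calc s * η = d⁻¹ * (d * s) * η := by group
        _ = d⁻¹ * (s * (d * η)) := by rw [hcd s hsS]; group
        _ = η * s := by rw [h1]; group
  · -- the triangle
    exfalso
    set i := d * ξ⁻¹ with hi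
    have hiD : i ∈ D := D.mul_mem hdD (D.inv_mem hE.w_mem.1)
    have hiD' : i ∈ D' := hD'.index d hdS ξ hξS hdD' hξD'
    have hci' := hcentral i hiD hiD' fun j hj hj' => by
      have h1 : j * ξ = ξ * j := hE.w_mem.2 j hj
      calc i * j = d * ξ⁻¹ * (j * ξ) * ξ⁻¹ := by rw [hi]; group
        _ = (d * j) * ξ⁻¹ := by rw [h1]; group
        _ = _ := by rw [hI j hj hj', hi]; group
    have hiZ : i⁻¹ ∈ Z D := ⟨D.inv_mem hiD, fun y hy => by
      have := hci' y (hD.le hy)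
      calc y * i⁻¹ = i⁻¹ * (i * y) * i⁻¹ := by group
        _ = i⁻¹ * y := by rw [this]; group⟩
    refine hE.not_sq _ hiZ ?_
    have h2 : i * ξ * η * (i * ξ * η) = 1 := by
      have e : i * ξ * η = ζ := by rw [hi, hζd]; group
      rw [e]; exact hE''.w_sq
    have h3 : ξ * η * ξ * η = c := by
      have hξi : ξ⁻¹ = ξ := inv_eq_of_mul_eq_one_right hE.w_sq
      have hηi : η⁻¹ = η := inv_eq_of_mul_eq_one_right hE'.w_sq
      rw [← hE'.comm_w ξ hξS hξD', commutatorElement_def, hξi, hηi]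
    have h4 : i * i * c = 1 := by
      calc i * i * c = i * (i * (ξ * η)) * (ξ * η) := by rw [← h3]; group
        _ = i * ((ξ * η) * i) * (ξ * η) := by rw [hci' _ (S.mul_mem hξS hηS)]
        _ = 1 := by rw [← h2]; group
    calc i⁻¹ * i⁻¹ = i⁻¹ * i⁻¹ * (i * i * c) := by rw [h4, mul_one]
      _ = c := by group

end Cfsg.Agent.Components.NilpotentInvariant
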