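import Cfsg.Agent.Lib.Components.NilpotentInvariant.Neighbour

/-!
A family of automorphisms of odd order stabilizing `S` gives an invariant subgroup of `S` with a
nontrivial automizer.
-/

set_option autoImplicit false
set_option linter.all false

namespace Cfsg.Agent.Components.NilpotentInvariant

open Subgroup
open scoped commutatorElement Pointwise
open Cfsg.Agent.PLocal.ThompsonComplement (Z)

variable {G : Type*} [Group G] [Finite G]

theorem Good.map {S D : Subgroup G} (hD : Good S D) {e : MulAut G}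
    (he : S.map e.toMonoidHom = S) : Good S (D.map e.toMonoidHom) := by
  have hfwd : ∀ s ∈ S, e s ∈ S := fun s hs => he.le ⟨s, hs, rfl⟩
  have hbwd : ∀ s ∈ S, ∃ s' ∈ S, e s' = s := fun s hs => by
    obtain ⟨s', hs', rfl⟩ := he.ge hs
    exact ⟨s', hs', rfl⟩
  have hinj : ∀ {d : G}, e d ∈ D.map e.toMonoidHom ↔ d ∈ D := fun {d} =>
    mem_map_iff_mem (f := e.toMonoidHom) e.injective
  obtain ⟨x, hxN, hxo, hxC, hxD, hxZ⟩ := hD.act
  have hZ : Z (D.map e.toMonoidHom) = (Z D).map e.toMonoidHom :=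
    (PLocal.ThompsonComplement.map_Z e.injective.injOn).symm
  refine ⟨(map_mono hD.le).trans he.le, ?_, ?_, e x, ?_, ?_, ?_, ?_, ?_⟩
  · intro s hs t ht hsD htD
    obtain ⟨s', hs', rfl⟩ := hbwd s hs
    obtain ⟨t', ht', rfl⟩ := hbwd t ht
    rw [← map_inv, ← map_mul, hinj]
    exact hD.index s' hs' t' ht' (fun h => hsD (hinj.mpr h)) fun h => htD (hinj.mpr h)
  · intro s hs hsc
    obtain ⟨s', hs', rfl⟩ := hbwd s hs
    rw [hinj]
    refine hD.cent s' hs' fun d hd => e.injective ?_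
    rw [map_mul, map_mul]
    exact hsc (e d) ⟨d, hd, rfl⟩
  · exact le_normalizer_map e.toMonoidHom ⟨x, hxN, rfl⟩
  · rwa [MulEquiv.orderOf_eq]
  · intro h
    refine hxC fun d hd => e.injective ?_
    rw [map_mul, map_mul]
    exact h (e d) ⟨d, hd, rfl⟩
  · rintro _ ⟨d, hd, rfl⟩
    rw [hZ]
    exact ⟨_, hxD d hd, by simp⟩
  · intro t ht htD z hz
    obtain ⟨t', ht', rfl⟩ := hbwd t ht
    rw [hZ] at hz
    obtain ⟨z', hz', rfl⟩ := hz
    have h := congrArg e (hxZ t' ht' (fun h => htD (hinj.mpr h)) z' hz')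
    simpa using h

theorem Adj.map {D D' : Subgroup G} (h : Adj D D') (e : MulAut G) :
    Adj (D.map e.toMonoidHom) (D'.map e.toMonoidHom) := by
  obtain ⟨ξ, hξ, η, hη, hne⟩ := h
  refine ⟨e ξ, ?_, e η, ?_, fun he => hne ?_⟩
  · rw [← PLocal.ThompsonComplement.map_Z e.injective.injOn]
    exact ⟨ξ, hξ, rfl⟩
  · rw [← PLocal.ThompsonComplement.map_Z e.injective.injOn]
    exact ⟨η, hη, rfl⟩
  · exact e.injective (by rw [map_commutatorElement, he, map_one])

theorem map_map_mulAut (D : Subgroup G) (a b : MulAut G) :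
    (D.map b.toMonoidHom).map a.toMonoidHom = D.map (a * b).toMonoidHom := by
  rw [Subgroup.map_map]; rfl

/-- The centres along an orbit of odd length commute. -/
theorem Good.not_adj_map {S D : Subgroup G} (hS : IsPGroup 2 S) (hcl : ClassTwo S) (hD : Good S D)
    {e : MulAut G} (he : S.map e.toMonoidHom = S) (ho : (orderOf e).Coprime 2) :
    ¬ Adj D (D.map e.toMonoidHom) := by
  intro h
  set D1 := D.map e.toMonoidHom with hD1
  set D2 := D1.map e.toMonoidHom with hD2
  have h2 : D = D2 := adj_unique hS hcl (hD.map he) hD ((hD.map he).map he) h.symm (h.map e)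
  have hfix : ∀ n : ℕ, D.map ((e ^ 2) ^ n).toMonoidHom = D := by
    intro n
    induction n with
    | zero => simp only [pow_zero]; exact D.map_id
    | succ n ih =>
      rw [pow_succ, ← map_map_mulAut, pow_two, ← map_map_mulAut, ← hD1, ← hD2, ← h2, ← pow_two, ih]
  obtain ⟨m, hm⟩ := exists_pow_eq_self_of_coprime (x := e) (n := 2) ho.symm
  have h1 : D1 = D := by rw [hD1, ← hm]; exact hfix m
  rw [h1] at h
  obtain ⟨ξ, hξ, η, hη, hne⟩ := h
  exact hne (comm_eq_one_iff.mpr (hξ.2 η hη.1))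

/-- An invariant subgroup of `S` normalized by an element of odd order acting nontrivially. -/
theorem exists_invariant {A : Type*} [Group A] (φ : A →* MulAut G) (S : Sylow 2 G)
    (hcl : ClassTwo (S : Subgroup G))
    (hself : ∀ g ∈ normalizer ((S : Subgroup G) : Set G), (orderOf g).Coprime 2 →
      g ∈ centralizer ((S : Subgroup G) : Set G))
    (hφS : ∀ a, (S : Subgroup G).map (φ a).toMonoidHom = (S : Subgroup G))
    (hφo : ∀ a, (orderOf (φ a)).Coprime 2)
    (hno : ¬ Transfer.Frobenius.Condition 2 G) :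
    ∃ W : Subgroup G, W ≤ (S : Subgroup G) ∧ W ≠ ⊥ ∧
      (S : Subgroup G) ≤ normalizer (W : Set G) ∧ (∀ a, ∀ w ∈ W, φ a w ∈ W) ∧
      ∃ x ∈ normalizer (W : Set G), (orderOf x).Coprime 2 ∧
        x ∉ centralizer ((S : Subgroup G) : Set G) := by
  obtain ⟨D, hD⟩ := exists_good hno S hcl hself
  obtain ⟨x, hxN, hxo, hxC, hxD, -⟩ := hD.act
  set W : Subgroup G := ⨆ a, (Z D).map (φ a).toMonoidHom with hW
  have hZW : Z D ≤ W := by
    refine le_trans ?_ (le_iSup (fun a => (Z D).map (φ a).toMonoidHom) 1)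
    rw [map_one]
    exact (Z D).map_id.ge
  have hWD : W ≤ D := by
    refine iSup_le fun a => ?_
    rintro _ ⟨z, hz, rfl⟩
    have hηS : φ a z ∈ (S : Subgroup G) := (hφS a).le ⟨z, hD.le hz.1, rfl⟩
    by_contra hnD
    change φ a z ∉ D at hnD
    have hz' : φ a z ∈ Z (D.map (φ a).toMonoidHom) := by
      rw [← PLocal.ThompsonComplement.map_Z (φ a).injective.injOn]
      exact ⟨z, hz, rfl⟩
    have hcomm : ∀ ξ ∈ Z D, φ a z * ξ = ξ * φ a z := by
      intro ξ hξ
      by_contra h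
      exact hD.not_adj_map S.2 hcl (hφS a) (hφo a)
        ⟨ξ, hξ, φ a z, hz', fun hh => h (comm_eq_one_iff.mp hh)⟩
    obtain ⟨x, hxN, hxo, hxC, hxD, hxZ⟩ := hD.act
    refine hxC (mem_centralizer_of_series (S.2.to_le hD.le) hxo (fun ξ hξ => ?_) hxD)
    have h1 := hxZ _ hηS hnD ξ hξ
    set η := φ a z with hη
    have hxξ : x * ξ * x⁻¹ ∈ Z D := conj_mem_Z hxN hξ
    have h2 : η * x * η⁻¹ * ξ * (η * x * η⁻¹)⁻¹ = x * ξ * x⁻¹ := by
      have e1 : η⁻¹ * ξ * η = ξ := by
        calc η⁻¹ * ξ * η = η⁻¹ * (ξ * η) := by group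
          _ = ξ := by rw [← hcomm ξ hξ]; group
      calc η * x * η⁻¹ * ξ * (η * x * η⁻¹)⁻¹ = η * (x * (η⁻¹ * ξ * η) * x⁻¹) * η⁻¹ := by group
        _ = x * ξ * x⁻¹ := by rw [e1, hcomm _ hxξ, mul_inv_cancel_right]
    rw [h2] at h1
    have h5 : x ^ 2 * ξ = ξ * x ^ 2 := by
      calc x ^ 2 * ξ = x * (x * ξ * x⁻¹) * x := by rw [pow_two]; group
        _ = ξ * x ^ 2 := by rw [h1, pow_two]; group
    have h6 : x * ξ = ξ * x := mem_centralizer_singleton_iff.mp
      (mem_of_pow (a := 1) hxo (mem_centralizer_singleton_iff.mpr (by rwa [pow_one])))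
    rw [h6, mul_inv_cancel_right]
  have hWA : ∀ a, ∀ w ∈ W, φ a w ∈ W := by
    intro a w hw
    have : W.map (φ a).toMonoidHom ≤ W := by
      rw [hW, Subgroup.map_iSup]
      refine iSup_le fun b => ?_
      rw [map_map_mulAut, ← map_mul]
      exact le_iSup (fun a => (Z D).map (φ a).toMonoidHom) (a * b)
    exact this ⟨w, hw, rfl⟩
  refine ⟨W, hWD.trans hD.le, fun h => ?_, ?_, hWA, x, ?_, hxo, ?_⟩
  · -- `Z D` is nontrivial
    have hD1 : D ≠ ⊥ := fun h0 => hxC fun d hd => by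
      rw [h0] at hd; rw [mem_bot.mp hd, one_mul, mul_one]
    exact PLocal.ThompsonComplement.Z_ne_bot (p := 2) (S.2.to_le hD.le) hD1
      (le_bot_iff.mp (hZW.trans h.le))
  · intro s hs
    have key : ∀ s ∈ (S : Subgroup G), ∀ w ∈ W, s * w * s⁻¹ ∈ W := by
      intro s hs w hw
      have e : s * w * s⁻¹ = ⁅s, w⁆ * w := by rw [commutatorElement_def]; group
      rw [e]
      exact W.mul_mem (hZW (commutator_mem_Z hcl hD.le hD.cent hs (hD.le (hWD hw)))) hw
    rw [mem_normalizer_iff]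
    refine fun w => ⟨key s hs w, fun hw => ?_⟩
    simpa [mul_assoc] using key _ ((S : Subgroup G).inv_mem hs) _ hw
  · refine Transfer.Fusion.map_conj_eq_self_iff.mp (eq_of_le_of_card_ge ?_
      (by rw [Transfer.Fusion.card_map_conj]))
    rintro _ ⟨w, hw, rfl⟩
    show x * w * x⁻¹ ∈ W
    have e : x * w * x⁻¹ = (x * w * x⁻¹ * w⁻¹) * w := by group
    rw [e]
    exact W.mul_mem (hZW (hxD w (hWD hw))) hw
  · exact fun h => hxC (centralizer_le (SetLike.coe_subset_coe.mpr hD.le) h)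

end Cfsg.Agent.Components.NilpotentInvariant
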